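import Groth.Agent.Lib.ModDesc.Basic

/-! # Finitely presented modules descend along limits with locally Noetherian stages -/

set_option autoImplicit false
set_option backward.isDefEq.respectTransparency false
set_option linter.style.haveILetI false
universe u

open CategoryTheory Limits AlgebraicGeometry Opposite TopologicalSpace
open GrothLib.BCCoh (pullRes)

namespace GrothLib.ModDesc

variable {I : Type u} [SmallCategory I] [IsCofiltered I] (D : I ⥤ Scheme.{u}) (c : Cone D)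
  (hc : IsLimit c) [∀ (i j : I) (f : i ⟶ j), IsAffineHom (D.map f)] (i₀ : I)

include hc in
/-- Finitely many functions on affine opens of the limit come from a common stage. -/
theorem exists_common_stage {τ : Type*} (U : τ → (D.obj i₀).Opens) (hU : ∀ x, IsAffineOpen (U x))
    (b : ∀ x, Γ(c.pt, c.π.app i₀ ⁻¹ᵁ U x)) (s : Finset τ) :
    ∃ (j : I) (φ : j ⟶ i₀), ∀ x ∈ s, ∃ (e : c.π.app i₀ ⁻¹ᵁ U x ≤ c.π.app j ⁻¹ᵁ (D.map φ ⁻¹ᵁ U x))
      (a : Γ(D.obj j, D.map φ ⁻¹ᵁ U x)), (c.π.app j).appLE _ _ e a = b x := by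
  classical
  induction s using Finset.induction_on with
  | empty => exact ⟨i₀, 𝟙 _, fun x hx => absurd hx (Finset.notMem_empty x)⟩
  | insert x s _ ih =>
    obtain ⟨j, φ, h⟩ := ih
    obtain ⟨k, ψ, e, a, ha⟩ := FlatLimit.exists_appLE_π_eq D c hc (hU x) (b x)
    let l := IsCofiltered.min (Over.mk φ) (Over.mk ψ)
    let l₁ := IsCofiltered.minToLeft (Over.mk φ) (Over.mk ψ)
    let l₂ := IsCofiltered.minToRight (Over.mk φ) (Over.mk ψ)
    refine ⟨l.left, l.hom, fun y hy => ?_⟩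
    have key : ∀ {m : I} (χ : m ⟶ i₀) (t : l.left ⟶ m), t ≫ χ = l.hom →
        ∀ (e : c.π.app i₀ ⁻¹ᵁ U y ≤ c.π.app m ⁻¹ᵁ (D.map χ ⁻¹ᵁ U y)) (a : Γ(D.obj m, D.map χ ⁻¹ᵁ U y)),
        (c.π.app m).appLE _ _ e a = b y →
        ∃ (e' : c.π.app i₀ ⁻¹ᵁ U y ≤ c.π.app l.left ⁻¹ᵁ (D.map l.hom ⁻¹ᵁ U y))
          (a' : Γ(D.obj l.left, D.map l.hom ⁻¹ᵁ U y)), (c.π.app l.left).appLE _ _ e' a' = b y := by
      intro m χ t ht e a ha
      have e1 : D.map l.hom ⁻¹ᵁ U y ≤ D.map t ⁻¹ᵁ (D.map χ ⁻¹ᵁ U y) := by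
        rw [← Scheme.Hom.comp_preimage, ← D.map_comp, ht]
      have e' : c.π.app i₀ ⁻¹ᵁ U y ≤ c.π.app l.left ⁻¹ᵁ (D.map l.hom ⁻¹ᵁ U y) := by
        rw [← Scheme.Hom.comp_preimage, c.w]
      refine ⟨e', (D.map t).appLE _ _ e1 a, ?_⟩
      refine Eq.trans ?_ ha
      rw [← ConcreteCategory.comp_apply, Scheme.Hom.appLE_comp_appLE]
      simp only [c.w]
      rfl
    rcases Finset.mem_insert.1 hy with rfl | hy'
    · exact key ψ l₂.left (Over.w l₂) e a ha
    · obtain ⟨e, a, ha⟩ := h y hy'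
      exact key φ l₁.left (Over.w l₁) e a ha

/-- The two ways to pull back to the limit agree. -/
noncomputable def theta (G : (D.obj i₀).Modules) {j : I} (φ : j ⟶ i₀) :
    (Scheme.Modules.pullback (c.π.app j)).obj ((Scheme.Modules.pullback (D.map φ)).obj G) ≅
      (Scheme.Modules.pullback (c.π.app i₀)).obj G :=
  (Scheme.Modules.pullbackComp (c.π.app j) (D.map φ)).app G ≪≫ (Scheme.Modules.pullbackCongr (c.w φ)).app G

omit [IsCofiltered I] [∀ (i j : I) (f : i ⟶ j), IsAffineHom (D.map f)] in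
theorem theta_pullRes (G : (D.obj i₀).Modules) {j : I} (φ : j ⟶ i₀) (U : (D.obj i₀).Opens) (V : c.pt.Opens)
    (e : V ≤ c.π.app i₀ ⁻¹ᵁ U) (ej : V ≤ c.π.app j ⁻¹ᵁ (D.map φ ⁻¹ᵁ U)) (m : Γ(G, U)) :
    (theta D c i₀ G φ).hom.app V (pullRes (c.π.app j) ((Scheme.Modules.pullback (D.map φ)).obj G) _ V ej
      (pullRes (D.map φ) G U (D.map φ ⁻¹ᵁ U) le_rfl m)) = pullRes (c.π.app i₀) G U V e m := by
  have e' : V ≤ (c.π.app j ≫ D.map φ) ⁻¹ᵁ U := ej
  rw [theta, Iso.trans_hom, Iso.app_hom, Iso.app_hom, Scheme.Modules.Hom.comp_app, ConcreteCategory.comp_apply]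
  exact (congrArg (((Scheme.Modules.pullbackCongr (c.w φ)).hom.app G).app V)
    (CohPullLib.pullbackComp_pullRes (c.π.app j) (D.map φ) G U (D.map φ ⁻¹ᵁ U) V le_rfl ej e' m)).trans
    (CohPullLib.pullbackCongr_pullRes (c.w φ) G U V e' e m)

include hc in
/-- **A finitely presented module on the limit comes from a coherent module on a stage.** -/
theorem exists_descend [∀ j, IsLocallyNoetherian (D.obj j)] [CompactSpace (D.obj i₀)] (F : c.pt.Modules)
    [F.IsQuasicoherent] (hF : CohB1.IsFP F) :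
    ∃ (j : I) (_ : j ⟶ i₀) (Fj : (D.obj j).Modules), Coh.IsCoh Fj ∧
      Nonempty ((Scheme.Modules.pullback (c.π.app j)).obj Fj ≅ F) := by
  classical
  let π₀ : c.pt ⟶ D.obj i₀ := c.π.app i₀
  haveI : IsAffineHom π₀ := isAffineHom_π_app D c hc i₀
  let P := (Scheme.Modules.pushforward π₀).obj F
  haveI : P.IsQuasicoherent := QCoh.isQuasicoherent_pushforward π₀ F
  obtain ⟨κ, hκ, U, hU, -, hcov⟩ := QCoh.exists_finite_affine_cover (U := (⊤ : (D.obj i₀).Opens))
    (by simpa using isCompact_univ)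
  haveI := Fintype.ofFinite κ
  let V : κ → c.pt.Opens := fun k => π₀ ⁻¹ᵁ U k
  have hV : ∀ k, IsAffineOpen (V k) := fun k => (hU k).preimage π₀
  have hVcov : IsOpenCover V := IsOpenCover.mk (by
    show (⨆ k, π₀ ⁻¹ᵁ U k) = ⊤
    rw [← Scheme.Hom.preimage_iSup, top_le_iff.1 hcov]
    rfl)
  haveI hFV : ∀ k, Module.FinitePresentation Γ(c.pt, V k) Γ(F, V k) :=
    fun k => FlatFP.finitePresentation_sections F hF (hV k)
  choose S hS using fun k => (Module.Finite.fg_top (R := Γ(c.pt, V k)) (M := Γ(F, V k)))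
  let eσ := (Fintype.equivFin (Σ k, S k)).symm
  obtain ⟨G, hG, q₀, hq₀⟩ := exists_coh_through P _ (fun x => U (eσ x).1) (fun x => hU _)
    (fun x => ((eσ x).2 : Γ(F, V (eσ x).1)))
  have hGq := hG.1
  let PG := (Scheme.Modules.pullback π₀).obj G
  haveI : PG.IsQuasicoherent := FittSheaf.isQuasicoherent_pullback π₀ G
  let q : PG ⟶ F := ((Scheme.Modules.pullbackPushforwardAdjunction π₀).homEquiv G F).symm q₀
  have hqs : ∀ k, Function.Surjective (QCoh.appLinear q (V k)) := fun k => by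
    rw [← LinearMap.range_eq_top, eq_top_iff, ← hS k, Submodule.span_le]
    intro s hs
    have hx : eσ (eσ.symm ⟨k, ⟨s, hs⟩⟩) = ⟨k, ⟨s, hs⟩⟩ := Equiv.apply_symm_apply _ _
    have := hq₀ (eσ.symm ⟨k, ⟨s, hs⟩⟩)
    rw [hx] at this
    obtain ⟨t, ht⟩ := this
    exact ⟨pullRes π₀ G (U k) (V k) le_rfl t, (homEquiv_symm_pullRes π₀ q₀ (U k) (V k) le_rfl t).trans
      ((CohPullLib.map_sec_self F le_rfl _).trans ht)⟩
  have hzk : ∀ k, ∃ (Z : Finset Γ(PG, V k)), (LinearMap.ker (QCoh.appLinear q (V k))) = Submodule.span _ ↑Z ∧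
      ∀ z ∈ Z, ∃ (n : ℕ) (b : Fin n → Γ(c.pt, V k)) (m : Fin n → Γ(G, U k)),
        z = ∑ l, b l • pullRes π₀ G (U k) (V k) le_rfl (m l) := by
    intro k
    letI : Algebra Γ(D.obj i₀, U k) Γ(c.pt, V k) := (π₀.appLE (U k) (V k) le_rfl).hom.toAlgebra
    letI : Module Γ(D.obj i₀, U k) Γ(PG, V k) := Module.compHom _ (π₀.appLE (U k) (V k) le_rfl).hom
    haveI : IsScalarTower Γ(D.obj i₀, U k) Γ(c.pt, V k) Γ(PG, V k) :=
      IsScalarTower.of_algebraMap_smul fun _ _ => rfl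
    obtain ⟨p, hp, hpv⟩ := BCCoh.isBaseChange_pullRes π₀ G (hU k) (hV k) le_rfl
    haveI : Module.Finite Γ(D.obj i₀, U k) Γ(G, U k) := QCoh.moduleFinite_of_isFiniteType G hG.2 (hU k)
    haveI : Module.Finite Γ(c.pt, V k) Γ(PG, V k) := Module.Finite.equiv hp.equiv
    obtain ⟨Z, hZ⟩ := Module.FinitePresentation.fg_ker (QCoh.appLinear q (V k)) (hqs k)
    refine ⟨Z, hZ.symm, fun z hzmem => ?_⟩
    clear hzmem
    obtain ⟨y, rfl⟩ := hp.equiv.surjective z
    induction y using TensorProduct.induction_on with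
    | zero => exact ⟨0, Fin.elim0, Fin.elim0, by simp⟩
    | tmul b m => exact ⟨1, fun _ => b, fun _ => m, by simp [IsBaseChange.equiv_tmul, hpv]⟩
    | add y y' hy hy' =>
      obtain ⟨n, b, m, hn⟩ := hy
      obtain ⟨n', b', m', hn'⟩ := hy'
      refine ⟨n + n', Fin.append b b', Fin.append m m', ?_⟩
      rw [map_add, hn, hn', Fin.sum_univ_add]
      simp
  choose Z hZ hZe using hzk
  choose nz bz mz hz using hZe
  let τ := Σ k : κ, Σ z : Z k, Fin (nz k z.1 z.2)
  obtain ⟨j, φ, hj⟩ := exists_common_stage D c hc i₀ (fun x : τ => U x.1) (fun x => hU x.1)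
    (fun x => bz x.1 x.2.1.1 x.2.1.2 x.2.2) Finset.univ
  let πj : c.pt ⟶ D.obj j := c.π.app j
  let Gj := (Scheme.Modules.pullback (D.map φ)).obj G
  haveI : Gj.IsQuasicoherent := FittSheaf.isQuasicoherent_pullback (D.map φ) G
  let θ := theta D c i₀ G φ
  haveI : IsAffineHom πj := isAffineHom_π_app D c hc j
  let Pj := (Scheme.Modules.pushforward πj).obj F
  haveI : Pj.IsQuasicoherent := QCoh.isQuasicoherent_pushforward πj F
  let qj : Gj ⟶ Pj := (Scheme.Modules.pullbackPushforwardAdjunction πj).homEquiv Gj F (θ.hom ≫ q)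
  haveI : (kernel qj).IsQuasicoherent := QCoh.isQuasicoherent_kernel qj
  let Fj := Abelian.coimage qj
  have hGjft : SheafOfModules.IsFiniteType.{u, u, u} (R := (D.obj j).ringCatSheaf) Gj :=
    (QCoh.isFiniteType_iff_moduleFinite Gj).2 fun _ hW => FittSheaf.moduleFinite_pullback (D.map φ) G hG.2 hW
  have hFj : Coh.IsCoh Fj := ⟨QCoh.isQuasicoherent_cokernel (kernel.ι qj),
    QCoh.isFiniteType_cokernel (kernel.ι qj) hGjft⟩
  haveI : Fj.IsQuasicoherent := hFj.1
  let a := (Scheme.Modules.pullback πj).map (Abelian.coimage.π qj)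
  haveI : Epi a := inferInstance
  haveI : ((Scheme.Modules.pullback πj).obj Gj).IsQuasicoherent := FittSheaf.isQuasicoherent_pullback πj Gj
  haveI : ((Scheme.Modules.pullback πj).obj Fj).IsQuasicoherent := FittSheaf.isQuasicoherent_pullback πj Fj
  let e : (Scheme.Modules.pullback πj).obj Fj ⟶ F :=
    ((Scheme.Modules.pullbackPushforwardAdjunction πj).homEquiv Fj F).symm (Abelian.factorThruCoimage qj)
  have hae : a ≫ e = θ.hom ≫ q := by
    rw [← Adjunction.homEquiv_naturality_left_symm, Abelian.coimage.fac]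
    exact Equiv.symm_apply_apply _ _
  have hkill : ∀ k, ∀ z ∈ Z k, a.app (V k) (θ.inv.app (V k) z) = 0 := by
    intro k z hzZ
    have ej : V k ≤ πj ⁻¹ᵁ (D.map φ ⁻¹ᵁ U k) := by
      show π₀ ⁻¹ᵁ U k ≤ _
      rw [← Scheme.Hom.comp_preimage, c.w]
    have ej' : πj ⁻¹ᵁ (D.map φ ⁻¹ᵁ U k) ≤ V k := by
      show _ ≤ π₀ ⁻¹ᵁ U k
      rw [← Scheme.Hom.comp_preimage, c.w]
    have hl := fun l : Fin (nz k z hzZ) => hj ⟨k, ⟨z, hzZ⟩, l⟩ (Finset.mem_univ _)
    choose el al hal using hl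
    let z' : Γ(Gj, D.map φ ⁻¹ᵁ U k) :=
      ∑ l, al l • pullRes (D.map φ) G (U k) (D.map φ ⁻¹ᵁ U k) le_rfl (mz k z hzZ l)
    let pr : Γ(Gj, D.map φ ⁻¹ᵁ U k) →+ Γ((Scheme.Modules.pullback πj).obj Gj, V k) :=
      AddMonoidHom.mk' (pullRes πj Gj _ (V k) ej) (BCCoh.pullRes_add πj Gj _ (V k) ej)
    have h1 : θ.hom.app (V k) (pr z') = z := by
      show θ.hom.app (V k) (pr (∑ l, _)) = z
      rw [map_sum, map_sum]
      refine Eq.trans (Finset.sum_congr rfl fun l _ => ?_) (hz k z hzZ).symm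
      show θ.hom.app (V k) (pullRes πj Gj _ (V k) ej (al l • _)) = _
      rw [BCCoh.pullRes_smul, Scheme.Modules.Hom.app_smul, theta_pullRes D c i₀ G φ (U k) (V k) le_rfl ej]
      exact congrArg (· • _) (hal l)
    have h2 : qj.app (D.map φ ⁻¹ᵁ U k) z' = 0 := by
      have h3 : q.app (V k) z = 0 := by
        have : z ∈ LinearMap.ker (QCoh.appLinear q (V k)) := hZ k ▸ Submodule.subset_span hzZ
        exact this
      have h4 : F.presheaf.map (homOfLE ej).op (qj.app (D.map φ ⁻¹ᵁ U k) z') = 0 := by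
        rw [← homEquiv_symm_pullRes πj qj]
        show (((Scheme.Modules.pullbackPushforwardAdjunction πj).homEquiv Gj F).symm
          ((Scheme.Modules.pullbackPushforwardAdjunction πj).homEquiv Gj F (θ.hom ≫ q))).app (V k) (pr z') = 0
        rw [Equiv.symm_apply_apply, Scheme.Modules.Hom.comp_app, ConcreteCategory.comp_apply, h1, h3]
      have h5 := congrArg (F.presheaf.map (homOfLE ej').op) h4
      rw [map_zero] at h5
      exact ((CohPullLib.map_sec_self F le_rfl _).symm.trans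
        (CohPullLib.map_map_sec F ej ej' _).symm).trans h5
    have h6 : (Abelian.coimage.π qj).app (D.map φ ⁻¹ᵁ U k) z' = 0 := by
      apply app_injective_of_mono (Abelian.factorThruCoimage qj) (D.map φ ⁻¹ᵁ U k)
      rw [← ConcreteCategory.comp_apply, ← Scheme.Modules.Hom.comp_app, Abelian.coimage.fac, h2, map_zero]
    have h7 : θ.inv.app (V k) z = pr z' := by
      rw [← h1, ← ConcreteCategory.comp_apply, ← Scheme.Modules.Hom.comp_app, Iso.hom_inv_id]
      rfl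
    rw [h7]
    refine (CohPullLib.pullRes_map πj (Abelian.coimage.π qj) _ (V k) ej z').trans ?_
    rw [h6]
    exact map_zero (AddMonoidHom.mk' (pullRes πj Fj (D.map φ ⁻¹ᵁ U k) (V k) ej) (BCCoh.pullRes_add πj Fj _ (V k) ej))
  have hbij : ∀ k, Function.Bijective (e.app (V k)) := by
    intro k
    have hap : ∀ y, e.app (V k) (a.app (V k) y) = q.app (V k) (θ.hom.app (V k) y) := fun y =>
      congrArg (fun t => (Scheme.Modules.Hom.app t (V k)) y) hae
    refine ⟨(injective_iff_map_eq_zero _).2 fun w hw => ?_, fun x => ?_⟩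
    · obtain ⟨y, rfl⟩ := app_surjective_of_epi a (hV k) w
      rw [hap] at hw
      have hy : θ.hom.app (V k) y ∈ LinearMap.ker (QCoh.appLinear q (V k)) := hw
      rw [hZ k] at hy
      have hsub : Submodule.span Γ(c.pt, V k) (Z k : Set Γ(PG, V k)) ≤
          LinearMap.ker (QCoh.appLinear (θ.inv ≫ a) (V k)) := Submodule.span_le.2 fun z hzz => hkill k z hzz
      have h8 : (θ.inv ≫ a).app (V k) (θ.hom.app (V k) y) = 0 := hsub hy
      rw [← ConcreteCategory.comp_apply, ← Scheme.Modules.Hom.comp_app, Iso.hom_inv_id_assoc] at h8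
      exact h8
    · obtain ⟨y, hy⟩ := hqs k x
      refine ⟨a.app (V k) (θ.inv.app (V k) y), ?_⟩
      rw [hap, ← ConcreteCategory.comp_apply (θ.inv.app (V k)), ← Scheme.Modules.Hom.comp_app, Iso.inv_hom_id]
      exact hy
  haveI : IsIso e := QCoh.isIso_of_bijective_on_cover e V hVcov hV hbij
  exact ⟨j, φ, Fj, hFj, ⟨asIso e⟩⟩

end GrothLib.ModDesc
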