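import Groth.Agent.S4342
import Groth.Agent.Lib.QCoh.DevissageRoots
import Groth.Agent.Lib.FlatLimit.Stage
import Groth.Agent.Lib.FlatFP.Sheaf
import Groth.Agent.Lib.CohPullLib.SecPull

/-! # Coherent sheaves through finitely many sections, and transposes on pulled-back sections -/

set_option autoImplicit false
set_option backward.isDefEq.respectTransparency false
set_option linter.style.haveILetI false
universe u

open CategoryTheory Limits AlgebraicGeometry Opposite TopologicalSpace
open GrothLib.BCCoh (pullRes)

namespace GrothLib.ModDesc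

variable {X Y : Scheme.{u}}

/-- Finitely many sections of a quasi-coherent sheaf come from one coherent sheaf mapping to it. -/
theorem exists_coh_through [IsLocallyNoetherian X] (P : X.Modules) [P.IsQuasicoherent] (n : ℕ)
    (U : Fin n → X.Opens) (hU : ∀ k, IsAffineOpen (U k)) (s : ∀ k, Γ(P, U k)) :
    ∃ G : X.Modules, Coh.IsCoh G ∧ ∃ q : G ⟶ P, ∀ k, ∃ t : Γ(G, U k), q.app (U k) t = s k := by
  have hX : ∀ x : X, ∃ W : X.Opens, x ∈ W ∧ NoetherianSpace (W : Set X) := fun x => by
    obtain ⟨W, hW, hx, -⟩ := exists_isAffineOpen_mem_and_subset (show x ∈ (⊤ : X.Opens) from trivial)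
    refine ⟨W, hx, ?_⟩
    haveI : IsAffine W.toScheme := hW
    haveI : IsNoetherian W.toScheme := {}
    exact inferInstanceAs (NoetherianSpace (W.toScheme : Type u))
  have h := fun k => Groth.Agent.S4342.result hX P ⟨U k, hU k⟩ (s k)
  choose G i _ hqc hft g hg using h
  haveI : HasFiniteBiproducts X.Modules := Abelian.hasFiniteBiproducts
  refine ⟨⨁ G, QCoh.isCoh_biproduct_fin G fun k => ⟨hqc k, hft k⟩, biproduct.desc i, fun k => ?_⟩
  refine ⟨(biproduct.ι G k).app (U k) (g k), ?_⟩
  rw [← ConcreteCategory.comp_apply, ← Scheme.Modules.Hom.comp_app, biproduct.ι_desc]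
  exact hg k

/-- The transpose on pulled-back sections. -/
theorem homEquiv_symm_pullRes (π : Y ⟶ X) {G : X.Modules} {F : Y.Modules}
    (q : G ⟶ (Scheme.Modules.pushforward π).obj F) (V : X.Opens) (V' : Y.Opens) (e : V' ≤ π ⁻¹ᵁ V)
    (t : Γ(G, V)) :
    (((Scheme.Modules.pullbackPushforwardAdjunction π).homEquiv G F).symm q).app V' (pullRes π G V V' e t) =
      F.presheaf.map (homOfLE e).op (q.app V t) := by
  rw [CohPullLib.pullRes_def]
  refine (CohPullLib.app_res (((Scheme.Modules.pullbackPushforwardAdjunction π).homEquiv G F).symm q) e _).trans ?_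
  refine congrArg _ ?_
  have h : (Scheme.Modules.pullbackPushforwardAdjunction π).unit.app G ≫
      (Scheme.Modules.pushforward π).map (((Scheme.Modules.pullbackPushforwardAdjunction π).homEquiv G F).symm q) = q :=
    ((Scheme.Modules.pullbackPushforwardAdjunction π).homEquiv_unit _ _ _).symm.trans (Equiv.apply_symm_apply _ _)
  exact congrArg (fun t' => (Scheme.Modules.Hom.app t' V) t) h

/-- An epimorphism of quasi-coherent sheaves is surjective on affine opens. -/
theorem app_surjective_of_epi {M N : X.Modules} [M.IsQuasicoherent] [N.IsQuasicoherent] (φ : M ⟶ N) [Epi φ]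
    {U : X.Opens} (hU : IsAffineOpen U) : Function.Surjective (φ.app U) := by
  have := QCoh.isQuasicoherent_kernel φ
  have hS : (ShortComplex.mk (kernel.ι φ) φ (kernel.condition φ)).ShortExact :=
    { exact := ShortComplex.exact_kernel φ }
  exact @QCoh.app_surjective_of_isAffineOpen _ _ hS this U hU

/-- A monomorphism is injective on sections. -/
theorem app_injective_of_mono {M N : X.Modules} (φ : M ⟶ N) [Mono φ] (U : X.Opens) :
    Function.Injective (φ.app U) := by
  have hS : (ShortComplex.mk φ (cokernel.π φ) (cokernel.condition φ)).ShortExact :=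
    { exact := ShortComplex.exact_cokernel φ }
  exact QCoh.app_injective hS U

end GrothLib.ModDesc
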