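import Groth.Agent.Lib.ModDesc.Descend
import Groth.Agent.Lib.LimDescend.FgSub
import Groth.Agent.Lib.LimDesc.Proper
import Groth.Agent.Lib.FlatLimit.StageGlobal
import Groth.Agent.Lib.FlatDesc.Basic
import Groth.Agent.Lib.QCoh.SupportExact
import Groth.Agent.Lib.FlatFP.InjCokerSheaf

/-! # A proper flat finitely presented module over an affine base comes from a Noetherian one -/

set_option autoImplicit false
set_option backward.isDefEq.respectTransparency false
set_option linter.style.haveILetI false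
universe u

open CategoryTheory Limits AlgebraicGeometry Opposite TopologicalSpace

noncomputable section

namespace GrothLib.ModDesc

open GrothLib.LimDescend (Model fgDiagram fgCone isLimitFgCone)
open GrothLib.LimDesc (diag mapNat)

section Gen

variable {I : Type u} [SmallCategory I] {D : I ⥤ Scheme.{u}} {c : Cone D} {X : Scheme.{u}} {f : X ⟶ c.pt} {i : I}

/-- The same model, in the form of a composite with an identity. -/
def postId (M : Model D c f i) : Model D c f i where
  obj := M.obj
  hom := M.hom ≫ 𝟙 _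
  proj := M.proj
  lfp := by rw [Category.comp_id]; exact M.lfp
  qc := by rw [Category.comp_id]; exact M.qc
  qs := by rw [Category.comp_id]; exact M.qs
  isPullback := by rw [Category.comp_id]; exact M.isPullback

theorem isPullback_id : IsPullback (c.π.app i) (𝟙 c.pt) (𝟙 (D.obj i)) (c.π.app i) :=
  IsPullback.id_vert _

theorem mapNat_comp_snd (M : Model D c f i) (j : Over i) :
    (mapNat D i (𝟙 (D.obj i)) (M.hom ≫ 𝟙 _) M.hom rfl).app j ≫ pullback.snd (𝟙 (D.obj i)) (D.map j.hom) =
      ((postId M).map D c j.hom).hom :=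
  LimDesc.mapNat_snd D i (𝟙 _) _ M.hom rfl j

/-- The pullback of a module to a later model. -/
theorem exists_pullback_iso (M : Model D c f i) {j : I} (φ : j ⟶ i) (G : M.obj.Modules) (F : X.Modules)
    (e : (Scheme.Modules.pullback M.proj).obj G ≅ F) :
    Nonempty ((Scheme.Modules.pullback (M.map D c φ).proj).obj
      ((Scheme.Modules.pullback (pullback.fst M.hom (D.map φ))).obj G) ≅ F) :=
  ⟨(Scheme.Modules.pullbackComp _ _).app G ≪≫
    (Scheme.Modules.pullbackCongr (pullback.lift_fst _ _ _)).app G ≪≫ e⟩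

theorem isCoh_pullback {A B : Scheme.{u}} (g : A ⟶ B) (G : B.Modules) (hG : Coh.IsCoh G) :
    Coh.IsCoh ((Scheme.Modules.pullback g).obj G) := by
  haveI := hG.1
  haveI := FittSheaf.isQuasicoherent_pullback g G
  exact ⟨inferInstance, (QCoh.isFiniteType_iff_moduleFinite _).2 fun _ hW =>
    FittSheaf.moduleFinite_pullback g G hG.2 hW⟩

end Gen

section Noeth

variable {I : Type u} [SmallCategory I] [IsCofiltered I] {D : I ⥤ Scheme.{u}} {c : Cone D} (hc : IsLimit c)
  [∀ (i j : I) (f : i ⟶ j), IsAffineHom (D.map f)] [∀ i, IsAffine (D.obj i)] [∀ i, IsLocallyNoetherian (D.obj i)]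
  {X : Scheme.{u}} {f : X ⟶ c.pt}

omit [IsCofiltered I] [∀ (i j : I) (f : i ⟶ j), IsAffineHom (D.map f)] [∀ i, IsAffine (D.obj i)] in
theorem isLocallyNoetherian_model {i : I} (M : Model D c f i) : IsLocallyNoetherian M.obj :=
  haveI : LocallyOfFiniteType M.hom := inferInstance
  LocallyOfFiniteType.isLocallyNoetherian M.hom

include hc in
/-- **A proper flat finitely presented family comes from a Noetherian stage.** -/
theorem exists_stage [LocallyOfFinitePresentation f] [IsProper f] (F : X.Modules) [F.IsQuasicoherent]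
    (hF : CohB1.IsFP F) (hfl : FlatMod.IsFlatOver f F) :
    ∃ (j : I) (M : Model D c f j) (G : M.obj.Modules), IsProper M.hom ∧ Coh.IsCoh G ∧
      FlatMod.IsFlatOver M.hom G ∧ Nonempty ((Scheme.Modules.pullback M.proj).obj G ≅ F) := by
  obtain ⟨i, ⟨M⟩⟩ := LimDescend.exists_model D c hc f
  haveI : CompactSpace M.obj := QuasiCompact.compactSpace_of_compactSpace M.hom
  -- descend the module
  haveI : ∀ j : Over i, IsLocallyNoetherian ((diag D i M.hom).obj j) := fun j =>
    isLocallyNoetherian_model (M.map D c j.hom)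
  haveI : ∀ (j k : Over i) (φ : j ⟶ k), IsAffineHom ((diag D i M.hom).map φ) :=
    fun j k φ => LimDesc.isAffineHom_map D i M.hom φ
  let top : Over i := Over.mk (𝟙 i)
  haveI : CompactSpace ((diag D i M.hom).obj top) := LimDesc.compactSpace_obj D i M.hom top
  haveI : (LimDesc.cone D i M.hom M.isPullback).pt = X := rfl
  obtain ⟨j, -, G₁, hG₁, ⟨e₁⟩⟩ := exists_descend (diag D i M.hom) (LimDesc.cone D i M.hom M.isPullback)
    (LimDesc.isLimitCone D i M.hom M.isPullback hc) top F hF
  let M₁ : Model D c f j.left := M.map D c j.hom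
  let G₁' : M₁.obj.Modules := G₁
  let e₁' : (Scheme.Modules.pullback M₁.proj).obj G₁' ≅ F := e₁
  -- properness
  haveI : CompactSpace M₁.obj := QuasiCompact.compactSpace_of_compactSpace M₁.hom
  haveI : QuasiSeparatedSpace M₁.obj := quasiSeparatedSpace_of_quasiSeparated M₁.hom
  obtain ⟨k, hk⟩ := LimDesc.exists_isProper D hc M₁.hom (𝟙 (D.obj j.left)) isPullback_id M₁.isPullback
  let M₂ : Model D c f k.left := (postId M₁).map D c k.hom
  haveI := hk
  haveI : IsProper M₂.hom := by
    show IsProper ((postId M₁).map D c k.hom).hom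
    rw [← mapNat_comp_snd M₁ k]
    haveI : IsIso (pullback.snd (𝟙 (D.obj j.left)) (D.map k.hom)) := inferInstance
    infer_instance
  let G₂ : M₂.obj.Modules := (Scheme.Modules.pullback (pullback.fst (postId M₁).hom (D.map k.hom))).obj G₁'
  have hG₂ : Coh.IsCoh G₂ := isCoh_pullback _ G₁' hG₁
  haveI := hG₂.1
  obtain ⟨e₂⟩ : Nonempty ((Scheme.Modules.pullback M₂.proj).obj G₂ ≅ F) :=
    exists_pullback_iso (postId M₁) k.hom G₁' F e₁'
  -- flatness
  haveI : IsLocallyNoetherian M₂.obj := isLocallyNoetherian_model M₂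
  haveI : CompactSpace M₂.obj := QuasiCompact.compactSpace_of_compactSpace M₂.hom
  haveI : QuasiSeparatedSpace M₂.obj := quasiSeparatedSpace_of_quasiSeparated M₂.hom
  have hfl₂ : FlatMod.IsFlatOver f ((Scheme.Modules.pullback M₂.proj).obj G₂) :=
    fun x => (FlatFP.isFlatOverAt_congr f e₂ x).2 (hfl x)
  obtain ⟨l, hl⟩ := FlatLimit.exists_stage_flatOver D hc M₂.hom (𝟙 (D.obj k.left)) isPullback_id M₂.isPullback G₂
    (QCoh.isFinitePresentation_of_isFiniteType G₂ hG₂.2) hfl₂
  let M₃ : Model D c f l.left := (postId M₂).map D c l.hom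
  let G₃ : M₃.obj.Modules := (Scheme.Modules.pullback (pullback.fst (postId M₂).hom (D.map l.hom))).obj G₂
  refine ⟨l.left, M₃, G₃, ?_, isCoh_pullback _ G₂ hG₂, ?_, exists_pullback_iso (postId M₂) l.hom G₂ F e₂⟩
  · haveI : IsProper (postId M₂).hom := inferInstanceAs (IsProper (M₂.hom ≫ 𝟙 _))
    exact MorphismProperty.pullback_snd (P := @IsProper) _ _ inferInstance
  · show FlatMod.IsFlatOver ((postId M₂).map D c l.hom).hom G₃
    rw [← mapNat_comp_snd M₂ l]
    haveI : IsIso (pullback.snd (𝟙 (D.obj k.left)) (D.map l.hom)) := inferInstance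
    exact fun x => FlatDesc.isFlatOverAt_comp _ _ _ x (hl x)

end Noeth

/-- **Noetherian approximation of a proper flat family over an affine base.** -/
theorem exists_noetherian_approximation (A : Type u) [CommRing A] {X : Scheme.{u}}
    (f : X ⟶ Spec (CommRingCat.of A)) [LocallyOfFinitePresentation f] [IsProper f] (F : X.Modules)
    [F.IsQuasicoherent] (hF : CohB1.IsFP F) (hfl : FlatMod.IsFlatOver f F) :
    ∃ A₀ : Subalgebra ℤ A, IsNoetherianRing A₀ ∧
      ∃ (X₀ : Scheme.{u}) (f₀ : X₀ ⟶ Spec (CommRingCat.of A₀)) (g : X ⟶ X₀) (F₀ : X₀.Modules),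
        IsProper f₀ ∧ Coh.IsCoh F₀ ∧ FlatMod.IsFlatOver f₀ F₀ ∧
        IsPullback g f f₀ (Spec.map (CommRingCat.ofHom (algebraMap A₀ A))) ∧
        Nonempty ((Scheme.Modules.pullback g).obj F₀ ≅ F) := by
  have hnoeth : ∀ S : LimDescend.FgSub A, IsNoetherianRing S.1 := fun S => by
    haveI : Algebra.FiniteType ℤ S.1 := (Subalgebra.fg_iff_finiteType S.1).1 S.2
    exact Algebra.FiniteType.isNoetherianRing ℤ S.1
  haveI : ∀ S : (LimDescend.FgSub A)ᵒᵖ, IsAffine ((fgDiagram A).obj S) := fun S => by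
    dsimp [fgDiagram]; infer_instance
  haveI : ∀ S : (LimDescend.FgSub A)ᵒᵖ, IsLocallyNoetherian ((fgDiagram A).obj S) := fun S => by
    haveI := hnoeth S.unop
    show IsLocallyNoetherian (Spec (CommRingCat.of S.unop.1))
    infer_instance
  haveI : ∀ (S T : (LimDescend.FgSub A)ᵒᵖ) (h : S ⟶ T), IsAffineHom ((fgDiagram A).map h) :=
    fun S T h => isAffineHom_of_isAffine _
  obtain ⟨j, M, G, hp, hG, hGfl, he⟩ := exists_stage (isLimitFgCone A) (f := f) F hF hfl
  exact ⟨j.unop.1, hnoeth j.unop, M.obj, M.hom, M.proj, G, hp, hG, hGfl, M.isPullback, he⟩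

end GrothLib.ModDesc
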